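import Mathlib
import Groth.Prelude.Def_W4c1hilbchowincPtFun
import Groth.Agent.Lib.Helper2.PtFunDVR.Main
import Groth.Agent.Lib.Helper2.CompletionDVR

/-!
# Pointwise functions varying algebraically along complete DVRs (helper2)

Same as `PtFunDVR.Main`, testing only along complete discrete valuation rings.
-/

set_option autoImplicit false
set_option backward.isDefEq.respectTransparency.types false
set_option synthInstance.maxHeartbeats 400000
set_option maxHeartbeats 4000000
set_option linter.style.haveILetI false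
set_option linter.unusedSectionVars false
set_option linter.unusedVariables false

universe u
open CategoryTheory AlgebraicGeometry W4c1hilbchowinc Polynomial
open Groth.Agent.Lib.Helper6.SubInt (ev ev_eq_zero_iff ev_surj ev_naturality)

namespace Groth.Agent.Lib.Helper2.PtFunDVR

/-- Passing to the completion of a DVR. -/
theorem exists_completion_dvr (W : Type u) [CommRing W] [IsDomain W] [IsDiscreteValuationRing W] :
    ∃ (V : Type u) (_ : CommRing V) (_ : IsDomain V) (_ : IsDiscreteValuationRing V)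
      (_ : IsAdicComplete (IsLocalRing.maximalIdeal V) V) (j : W →+* V),
      Function.Injective j ∧ (IsLocalRing.maximalIdeal V).comap j = IsLocalRing.maximalIdeal W := by
  obtain ⟨hd, hdvr⟩ := (Groth.Agent.Helper2.CompletionDVR.dvr_iff W).mp ⟨inferInstance, inferInstance⟩
  have hff : Module.FaithfullyFlat W (AdicCompletion (IsLocalRing.maximalIdeal W) W) :=
    Module.FaithfullyFlat.of_flat_of_isLocalHom
  have hinj : Function.Injective
      (algebraMap W (AdicCompletion (IsLocalRing.maximalIdeal W) W)) :=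
    FaithfulSMul.algebraMap_injective W _
  refine ⟨AdicCompletion (IsLocalRing.maximalIdeal W) W, inferInstance, hd, hdvr, ?_,
    algebraMap W _, hinj, ?_⟩
  · infer_instance
  have hloc : IsLocalHom (algebraMap W (AdicCompletion (IsLocalRing.maximalIdeal W) W)) :=
    inferInstance
  exact ((IsLocalRing.local_hom_TFAE
    (algebraMap W (AdicCompletion (IsLocalRing.maximalIdeal W) W))).out 0 4).mp hloc

theorem exists_cdvr_centered (D : Type u) [CommRing D] [IsDomain D] [IsNoetherianRing D]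
    (P : Ideal D) [P.IsPrime] (hP : P ≠ ⊥) :
    ∃ (W : Type u) (_ : CommRing W) (_ : IsDomain W) (_ : IsDiscreteValuationRing W)
      (_ : IsAdicComplete (IsLocalRing.maximalIdeal W) W)
      (φ : D →+* W), Function.Injective φ ∧ (IsLocalRing.maximalIdeal W).comap φ = P := by
  obtain ⟨W, i1, i2, i3, φ, hφ1, hφ2⟩ :=
    Groth.Agent.Lib.Helper4.FlatDVR1.exists_dvr_centered D P hP
  obtain ⟨V, j1, j2, j3, j4, j, hj1, hj2⟩ := exists_completion_dvr W
  refine ⟨V, j1, j2, j3, j4, j.comp φ, hj1.comp hφ1, ?_⟩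
  rw [← Ideal.comap_comap, hj2, hφ2]

theorem exists_cdvr_between {A : Type u} [CommRing A] [IsNoetherianRing A]
    (q p : Ideal A) [q.IsPrime] [p.IsPrime] (hqp : q ≤ p) (hne : q ≠ p) :
    ∃ (W : Type u) (_ : CommRing W) (_ : IsDomain W) (_ : IsDiscreteValuationRing W)
      (_ : IsAdicComplete (IsLocalRing.maximalIdeal W) W)
      (φ : A →+* W), (⊥ : Ideal W).comap φ = q ∧ (IsLocalRing.maximalIdeal W).comap φ = p := by
  obtain ⟨W, i1, i2, i3, φ, hφ1, hφ2⟩ :=
    Groth.Agent.Lib.Helper4.FlatDVR1.exists_dvr_between q p hqp hne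
  obtain ⟨V, j1, j2, j3, j4, j, hj1, hj2⟩ := exists_completion_dvr W
  refine ⟨V, j1, j2, j3, j4, j.comp φ, ?_, ?_⟩
  · rw [← Ideal.comap_comap, ← RingHom.ker_eq_comap_bot j,
      (RingHom.injective_iff_ker_eq_bot j).mp hj1, hφ1]
  · rw [← Ideal.comap_comap, hj2, hφ2]

/-- Integrality criterion through complete discrete valuation rings. -/
theorem isIntegral_of_cdvr (D : Type u) [CommRing D] [IsDomain D] [IsNoetherianRing D]
    (K : Type u) [Field K] [Algebra D K] (hinj : Function.Injective (algebraMap D K))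
    (b s : D) (hs : s ≠ 0)
    (h : ∀ (W : Type u) [CommRing W] [IsDomain W] [IsDiscreteValuationRing W]
      [IsAdicComplete (IsLocalRing.maximalIdeal W) W] (ψ : D →+* W),
      Function.Injective ψ → ∃ r : W, r * ψ s = ψ b) :
    IsIntegral D (algebraMap D K b / algebraMap D K s) := by
  classical
  by_contra hni
  have hs' : algebraMap D K s ≠ 0 := fun h0 => hs (hinj (by rw [h0, map_zero]))
  have hx0 : algebraMap D K b / algebraMap D K s ≠ 0 := by
    intro h0; apply hni; rw [h0]; exact isIntegral_zero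
  have hb : b ≠ 0 := by
    rintro rfl
    apply hx0; rw [map_zero, zero_div]
  have hb' : algebraMap D K b ≠ 0 := fun h0 => hb (hinj (by rw [h0, map_zero]))
  generalize hx : algebraMap D K b / algebraMap D K s = x at hni hx0
  let B : Subalgebra D K := Algebra.adjoin D {x⁻¹}
  let xinv : B := ⟨x⁻¹, Algebra.subset_adjoin rfl⟩
  have hspan : Ideal.span {xinv} ≠ ⊤ := by
    intro eq
    apply hni
    letI : Invertible x⁻¹ := invertibleOfNonzero (inv_ne_zero hx0)
    have ⟨p, hp, hpx⟩ := Algebra.exists_aeval_invOf_eq_zero_of_idealMap_adjoin_sup_span_eq_top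
      (R := D) x⁻¹ (⊥ : Ideal D) bot_ne_top (top_unique <| eq.ge.trans le_sup_right)
    have hmonic : p.Monic := by
      have := (Submodule.mem_bot D).mp hp
      exact sub_eq_zero.mp this
    refine ⟨p, hmonic, ?_⟩
    rw [← aeval_def]
    rwa [invOf_eq_inv, inv_inv] at hpx
  obtain ⟨M, hM, hle⟩ := Ideal.exists_le_maximal _ hspan
  haveI := hM.isPrime
  have hxM : xinv ∈ M := hle (Ideal.subset_span rfl)
  have hxinv0 : xinv ≠ 0 := by
    intro h0; exact inv_ne_zero hx0 (congrArg Subtype.val h0)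
  have hMbot : M ≠ ⊥ := by
    intro h0; rw [h0] at hxM; exact hxinv0 ((Submodule.mem_bot B).mp hxM)
  haveI : Algebra.FiniteType D B := (Subalgebra.fg_iff_finiteType _).mp ⟨{x⁻¹}, by simp [B]⟩
  haveI : IsNoetherianRing B := Algebra.FiniteType.isNoetherianRing D B
  obtain ⟨W, i1, i2, i3, i4, ψ, hψ1, hψ2⟩ := exists_cdvr_centered B M hMbot
  have hinjB : Function.Injective (algebraMap D B) := by
    intro a a' haa
    apply hinj
    have := congrArg (algebraMap B K) haa
    rwa [← IsScalarTower.algebraMap_apply, ← IsScalarTower.algebraMap_apply] at this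
  obtain ⟨r, hr⟩ := h W (ψ.comp (algebraMap D B)) (hψ1.comp hinjB)
  have hrel : xinv * algebraMap D B b = algebraMap D B s := by
    apply Subtype.ext
    show x⁻¹ * algebraMap D K b = algebraMap D K s
    rw [← hx, inv_div, div_mul_cancel₀ _ hb']
  have hrel' : ψ xinv * ψ (algebraMap D B b) = ψ (algebraMap D B s) := by rw [← map_mul, hrel]
  have hψb : ψ (algebraMap D B b) ≠ 0 := by
    intro h0
    exact hb (hinjB (hψ1 (by rw [h0, map_zero, map_zero])))
  have hunit : r * ψ xinv = 1 := by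
    have : (r * ψ xinv) * ψ (algebraMap D B b) = 1 * ψ (algebraMap D B b) := by
      rw [one_mul, mul_assoc, hrel']; exact hr
    exact mul_right_cancel₀ hψb this
  have hmem : ψ xinv ∈ IsLocalRing.maximalIdeal W := by
    have : xinv ∈ (IsLocalRing.maximalIdeal W).comap ψ := by rw [hψ2]; exact hxM
    exact this
  exact (IsLocalRing.mem_maximalIdeal _).mp hmem
    (isUnit_iff_exists_inv.mpr ⟨r, by rw [mul_comm]; exact hunit⟩)

variable {A : Type u} [CommRing A]

theorem cdvr_section (f : PtFun (Spec (CommRingCat.of A))) (hf : f.VariesAlongCompleteDVR)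
    (W : Type u) [CommRing W] [IsDomain W] [IsDiscreteValuationRing W]
    [IsAdicComplete (IsLocalRing.maximalIdeal W) W] (φ : A →+* W) :
    ∃ r : W, ∀ y : Spec (CommRingCat.of W),
      ev (CommRingCat.of W) y r =
        (Spec.map (CommRingCat.ofHom φ)).residueFieldMap y
          (f (Spec.map (CommRingCat.ofHom φ) y)) := by
  obtain ⟨r', hr'⟩ := hf W (Spec.map (CommRingCat.ofHom φ))
  refine ⟨(Scheme.ΓSpecIso (CommRingCat.of W)).hom.hom r', fun y => ?_⟩
  have h1 := congrFun hr' y
  unfold ev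
  rw [CommRingCat.hom_comp, RingHom.comp_apply]
  have : (Scheme.ΓSpecIso (CommRingCat.of W)).inv.hom
      ((Scheme.ΓSpecIso (CommRingCat.of W)).hom.hom r') = r' := by
    change ((Scheme.ΓSpecIso (CommRingCat.of W)).hom ≫
      (Scheme.ΓSpecIso (CommRingCat.of W)).inv).hom r' = r'
    rw [Iso.hom_inv_id]; rfl
  rw [this]
  exact h1

theorem exists_monic_of_point_c [IsNoetherianRing A] (f : PtFun (Spec (CommRingCat.of A)))
    (hf : f.VariesAlongCompleteDVR) (z : Spec (CommRingCat.of A)) (b s : A)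
    (hs : s ∉ z.asIdeal)
    (h : f z * ev (CommRingCat.of A) z s = ev (CommRingCat.of A) z b) :
    ∃ G : A[X], G.Monic ∧ (G.scaleRoots s).eval b ∈ z.asIdeal := by
  classical
  haveI hpr : z.asIdeal.IsPrime := z.isPrime
  set p : Ideal A := z.asIdeal with hp
  let D := A ⧸ p
  let K := FractionRing D
  have hs0 : (Ideal.Quotient.mk p s) ≠ 0 := fun h0 => hs (Ideal.Quotient.eq_zero_iff_mem.mp h0)
  have hinjK : Function.Injective (algebraMap D K) := IsFractionRing.injective D K
  have hint : IsIntegral D (algebraMap D K (Ideal.Quotient.mk p b) /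
      algebraMap D K (Ideal.Quotient.mk p s)) := by
    refine isIntegral_of_cdvr D K hinjK _ _ hs0 ?_
    intro W _ _ _ _ ψ hψ
    let φ : A →+* W := ψ.comp (Ideal.Quotient.mk p)
    obtain ⟨r, hr⟩ := cdvr_section f hf W φ
    let y : Spec (CommRingCat.of W) := (⟨⊥, Ideal.isPrime_bot⟩ : PrimeSpectrum W)
    have hgy : Spec.map (CommRingCat.ofHom φ) y = z := by
      apply PrimeSpectrum.ext
      rw [Spec.map_apply]
      show Ideal.comap φ ⊥ = z.asIdeal
      rw [← RingHom.ker_eq_comap_bot]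
      ext a
      rw [RingHom.mem_ker]
      show ψ (Ideal.Quotient.mk p a) = 0 ↔ a ∈ p
      rw [map_eq_zero_iff ψ hψ, Ideal.Quotient.eq_zero_iff_mem]
    have h' : f (Spec.map (CommRingCat.ofHom φ) y) *
        ev (CommRingCat.of A) (Spec.map (CommRingCat.ofHom φ) y) s =
        ev (CommRingCat.of A) (Spec.map (CommRingCat.ofHom φ) y) b := by
      rw [hgy]; exact h
    have h2 := dvr_rel f W φ r y (hr y) b s h'
    exact ⟨r, ev_bot_injective W y rfl _ _ h2⟩
  obtain ⟨g0, hg0m, hg0⟩ := hint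
  have hsnzd : (Ideal.Quotient.mk p s) ∈ nonZeroDivisors D := mem_nonZeroDivisors_of_ne_zero hs0
  have h1 := scaleRoots_eval₂_eq_zero_of_eval₂_div_eq_zero hinjK hg0 hsnzd
  rw [Polynomial.eval₂_at_apply] at h1
  have h2 : (g0.scaleRoots (Ideal.Quotient.mk p s)).eval (Ideal.Quotient.mk p b) = 0 :=
    hinjK (by rw [h1, map_zero])
  have hlifts : g0 ∈ Polynomial.lifts (Ideal.Quotient.mk p) :=
    (Polynomial.mem_lifts _).mpr (Polynomial.map_surjective _ Ideal.Quotient.mk_surjective g0)
  obtain ⟨G, hGmap, -, hGm⟩ := Polynomial.lifts_and_natDegree_eq_and_monic hlifts hg0m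
  refine ⟨G, hGm, ?_⟩
  have hlc : (Ideal.Quotient.mk p) G.leadingCoeff ≠ 0 := by
    rw [hGm.leadingCoeff, map_one]; exact one_ne_zero
  rw [← Ideal.Quotient.eq_zero_iff_mem, ← Polynomial.eval₂_at_apply, ← Polynomial.eval_map,
    Polynomial.map_scaleRoots G s _ hlc, hGmap]
  exact h2

/-- Existence of a section with prescribed values at the minimal primes. -/
theorem exists_at_minimal_c [IsReduced A] [IsNoetherianRing A] [IsIntegrallyClosed A]
    (f : PtFun (Spec (CommRingCat.of A))) (hf : f.VariesAlongCompleteDVR) :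
    ∃ a : A, ∀ z : Spec (CommRingCat.of A), z.asIdeal ∈ minimalPrimes A →
      ev (CommRingCat.of A) z a = f z := by
  classical
  have hfin := minimalPrimes.finite_of_isNoetherianRing A
  let ι := {p : Ideal A // p ∈ minimalPrimes A}
  haveI : Fintype ι := hfin.fintype
  let pt : ι → Spec (CommRingCat.of A) := fun i => (⟨i.1, i.2.1.1⟩ : PrimeSpectrum A)
  have hpt : ∀ i, (pt i).asIdeal = i.1 := fun i => rfl
  choose b s hs hbs using fun i : ι => ev_surj (CommRingCat.of A) (pt i) (f (pt i))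
  -- separating elements
  have ht : ∀ i : ι, ∃ t : A, t ∉ i.1 ∧ ∀ j : ι, j ≠ i → t ∈ j.1 := by
    intro i
    haveI : i.1.IsPrime := i.2.1.1
    have hc : ∀ j : ι, j ≠ i → ∃ c : A, c ∈ j.1 ∧ c ∉ i.1 := by
      intro j hji
      have hnle : ¬ (j.1 ≤ i.1) := by
        intro hle
        apply hji
        apply Subtype.ext
        exact le_antisymm hle (i.2.2 ⟨j.2.1.1, bot_le⟩ hle)
      exact SetLike.not_le_iff_exists.mp hnle
    choose! c hc1 hc2 using hc
    refine ⟨∏ j ∈ Finset.univ.erase i, c j, ?_, ?_⟩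
    · rw [Ideal.IsPrime.prod_mem_iff]
      rintro ⟨j, hj, hcj⟩
      exact hc2 j (Finset.ne_of_mem_erase hj) hcj
    · intro j hji
      exact Ideal.mem_of_dvd _ (Finset.dvd_prod_of_mem c
        (Finset.mem_erase.mpr ⟨hji, Finset.mem_univ j⟩)) (hc1 j hji)
  choose t ht1 ht2 using ht
  have hevt : ∀ i j : ι, j ≠ i → ev (CommRingCat.of A) (pt i) (t j) = 0 := by
    intro i j hji
    rw [ev_eq_zero_iff]
    exact ht2 j i (Ne.symm hji)
  have hev : ∀ (i : ι) (v : ι → A), ev (CommRingCat.of A) (pt i) (∑ j, t j * v j) =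
      ev (CommRingCat.of A) (pt i) (t i) * ev (CommRingCat.of A) (pt i) (v i) := by
    intro i v
    rw [map_sum, Finset.sum_eq_single i]
    · rw [map_mul]
    · intro j _ hji
      rw [map_mul, hevt i j hji, zero_mul]
    · intro h; exact absurd (Finset.mem_univ i) h
  have het : ∀ i, ev (CommRingCat.of A) (pt i) (t i) ≠ 0 := by
    intro i h0
    exact ht1 i ((ev_eq_zero_iff _ _ _).mp h0)
  have hes : ∀ i, ev (CommRingCat.of A) (pt i) (s i) ≠ 0 := by
    intro i h0
    exact hs i ((ev_eq_zero_iff _ _ _).mp h0)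
  set s₀ : A := ∑ j, t j * s j with hs₀
  set b₀ : A := ∑ j, t j * b j with hb₀
  have hs₀ne : ∀ i, ev (CommRingCat.of A) (pt i) s₀ ≠ 0 := by
    intro i
    rw [hs₀, hev]
    exact mul_ne_zero (het i) (hes i)
  have hs₀mem : ∀ i : ι, s₀ ∉ i.1 := by
    intro i hmem
    exact hs₀ne i ((ev_eq_zero_iff _ (pt i) _).mpr hmem)
  have hrel : ∀ i, f (pt i) * ev (CommRingCat.of A) (pt i) s₀ =
      ev (CommRingCat.of A) (pt i) b₀ := by
    intro i
    rw [hs₀, hb₀, hev, hev, ← hbs i]
    ring
  have hs₀nzd : s₀ ∈ nonZeroDivisors A := by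
    rw [mem_nonZeroDivisors_iff_right]
    intro c hc
    apply eq_zero_of_forall_mem_minimalPrimes
    intro p hp
    haveI : p.IsPrime := hp.1.1
    have : c * s₀ ∈ p := by rw [hc]; exact p.zero_mem
    exact (Ideal.IsPrime.mem_or_mem ‹_› this).resolve_right (hs₀mem ⟨p, hp⟩)
  choose G hGm hGmem using fun i : ι => exists_monic_of_point_c f hf (pt i) b₀ s₀ (hs₀mem i) (hrel i)
  have hprod : ∏ i, ((G i).scaleRoots s₀).eval b₀ = 0 := by
    apply eq_zero_of_forall_mem_minimalPrimes
    intro p hp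
    exact Ideal.mem_of_dvd _ (Finset.dvd_prod_of_mem (fun i => ((G i).scaleRoots s₀).eval b₀)
      (Finset.mem_univ (⟨p, hp⟩ : ι))) (hGmem ⟨p, hp⟩)
  let Q := FractionRing A
  let a' : Q := IsLocalization.mk' Q b₀ (⟨s₀, hs₀nzd⟩ : nonZeroDivisors A)
  have hmk : algebraMap A Q s₀ * a' = algebraMap A Q b₀ := by
    rw [mul_comm]; exact IsLocalization.mk'_spec Q b₀ (⟨s₀, hs₀nzd⟩ : nonZeroDivisors A)
  have hunit : IsUnit (algebraMap A Q s₀) :=
    IsLocalization.map_units Q (⟨s₀, hs₀nzd⟩ : nonZeroDivisors A)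
  have hone : ∀ i, algebraMap A Q (((G i).scaleRoots s₀).eval b₀) =
      algebraMap A Q s₀ ^ (G i).natDegree * eval₂ (algebraMap A Q) a' (G i) := by
    intro i
    rw [← scaleRoots_eval₂_mul, hmk, Polynomial.eval₂_at_apply]
  have hint : IsIntegral A a' := by
    refine ⟨∏ i, G i, Polynomial.monic_prod_of_monic _ _ (fun i _ => hGm i), ?_⟩
    have h1 := congrArg (algebraMap A Q) hprod
    rw [map_prod, map_zero] at h1
    simp_rw [hone] at h1
    rw [Finset.prod_mul_distrib, Finset.prod_pow_eq_pow_sum] at h1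
    rw [Polynomial.eval₂_finsetProd]
    exact ((hunit.pow _).mul_right_eq_zero).mp h1
  obtain ⟨a, ha⟩ := IsIntegrallyClosed.algebraMap_eq_of_integral hint
  have hsa : s₀ * a = b₀ := by
    apply IsFractionRing.injective A Q
    rw [map_mul, ha, hmk]
  refine ⟨a, fun z hz => ?_⟩
  have hzi : z = pt ⟨z.asIdeal, hz⟩ := rfl
  rw [hzi]
  have h1 := hrel ⟨z.asIdeal, hz⟩
  rw [← hsa, map_mul, mul_comm] at h1
  exact (mul_left_cancel₀ (hs₀ne ⟨z.asIdeal, hz⟩) h1).symm


/-- Main: a pointwise function varying along DVRs on `Spec A`, `A` reduced Noetherian integrally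
closed, is the function of a global section. -/
theorem main_c [IsReduced A] [IsNoetherianRing A] [IsIntegrallyClosed A]
    (f : PtFun (Spec (CommRingCat.of A))) (hf : f.VariesAlongCompleteDVR) :
    ∃ a : A, ∀ z : Spec (CommRingCat.of A), ev (CommRingCat.of A) z a = f z := by
  classical
  obtain ⟨a, ha⟩ := exists_at_minimal_c f hf
  refine ⟨a, fun z => ?_⟩
  haveI hzp : z.asIdeal.IsPrime := z.isPrime
  obtain ⟨p, hp, hpz⟩ := Ideal.exists_minimalPrimes_le (J := z.asIdeal) bot_le
  have hp' : p ∈ minimalPrimes A := hp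
  haveI : p.IsPrime := hp.1.1
  by_cases hpe : p = z.asIdeal
  · exact ha z (hpe ▸ hp')
  · obtain ⟨W, i1, i2, i3, i4, φ, hφ1, hφ2⟩ :=
      exists_cdvr_between p z.asIdeal hpz hpe
    obtain ⟨r, hr⟩ := cdvr_section f hf W φ
    let y : Spec (CommRingCat.of W) := (⟨⊥, Ideal.isPrime_bot⟩ : PrimeSpectrum W)
    let y₀ : Spec (CommRingCat.of W) :=
      (⟨IsLocalRing.maximalIdeal W, inferInstance⟩ : PrimeSpectrum W)
    have hgy : (Spec.map (CommRingCat.ofHom φ) y).asIdeal ∈ minimalPrimes A := by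
      rw [Spec.map_apply]
      show Ideal.comap φ ⊥ ∈ minimalPrimes A
      rw [hφ1]; exact hp'
    have hgy₀ : Spec.map (CommRingCat.ofHom φ) y₀ = z := by
      apply PrimeSpectrum.ext
      rw [Spec.map_apply]
      exact hφ2
    have h1 := ha _ hgy
    have h2 : ev (CommRingCat.of W) y r = ev (CommRingCat.of W) y (φ a) := by
      rw [hr y, ← h1, ev_naturality]; rfl
    have h3 : r = φ a := ev_bot_injective W y rfl _ _ h2
    have h4 : (Spec.map (CommRingCat.ofHom φ)).residueFieldMap y₀
        (f (Spec.map (CommRingCat.ofHom φ) y₀)) =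
        (Spec.map (CommRingCat.ofHom φ)).residueFieldMap y₀
          (ev (CommRingCat.of A) (Spec.map (CommRingCat.ofHom φ) y₀) a) := by
      rw [← hr y₀, h3, ev_naturality]; rfl
    have h5 := ((Spec.map (CommRingCat.ofHom φ)).residueFieldMap y₀).hom.injective h4
    rw [hgy₀] at h5
    exact h5.symm


end Groth.Agent.Lib.Helper2.PtFunDVR
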