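import Mathlib
import Groth.Prelude.Def_HTop2
import Groth.Prelude.Def_W4c1hilbchowincPtFun
import Groth.Agent.Lib.Helper2.PtFunDVR.Complete

/-!
# Pointwise functions varying along complete DVRs on a seminormal Noetherian affine scheme (helper2)
-/

set_option autoImplicit false
set_option backward.isDefEq.respectTransparency.types false
set_option synthInstance.maxHeartbeats 400000
set_option maxHeartbeats 4000000
set_option linter.style.haveILetI false
set_option linter.unusedSectionVars false
set_option linter.unusedVariables false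

universe u
open CategoryTheory AlgebraicGeometry W4c1hilbchowinc Polynomial
open Groth.Agent.Lib.Helper6.SubInt (ev ev_eq_zero_iff ev_surj ev_naturality)

namespace Groth.Agent.Lib.Helper2.PtFunDVR

section Alg

theorem isReduced_of_seminormal {A : Type u} [CommRing A] (hA : HTop.IsSeminormalRing A) :
    IsReduced A := by
  rw [isReduced_iff_pow_one_lt 2 (by norm_num)]
  intro x hx
  obtain ⟨a, -, huniq⟩ := hA 0 0 (by ring)
  have h0 : (0 : A) = a := huniq 0 ⟨by ring, by ring⟩
  have hx' : x = a := huniq x ⟨by rw [hx], by rw [pow_succ, hx, zero_mul]⟩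
  rw [hx', ← h0]

/-- Uniform fractions along the fibre for elements of `A[b]`. -/
theorem uniform_adjoin {A B : Type u} [CommRing A] [CommRing B] [Algebra A B] (b : B)
    (p : Ideal A) [p.IsPrime]
    (hb : ∃ a s : A, s ∉ p ∧ ∀ (q : Ideal B), q.IsPrime → q.comap (algebraMap A B) = p →
      algebraMap A B s * b - algebraMap A B a ∈ q)
    (c : B) (hc : c ∈ Algebra.adjoin A {b}) :
    ∃ a s : A, s ∉ p ∧ ∀ (q : Ideal B), q.IsPrime → q.comap (algebraMap A B) = p →
      algebraMap A B s * c - algebraMap A B a ∈ q := by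
  induction hc using Algebra.adjoin_induction with
  | mem x hx =>
    rw [Set.mem_singleton_iff] at hx
    rw [hx]; exact hb
  | algebraMap r =>
    refine ⟨r, 1, fun h1 => (Ideal.IsPrime.ne_top ‹_›) ((Ideal.eq_top_iff_one p).mpr h1), ?_⟩
    intro q _ _
    rw [map_one, one_mul, sub_self]; exact q.zero_mem
  | add x y hx hy hx' hy' =>
    obtain ⟨a₁, s₁, hs₁, h₁⟩ := hx'
    obtain ⟨a₂, s₂, hs₂, h₂⟩ := hy'
    refine ⟨s₂ * a₁ + s₁ * a₂, s₁ * s₂, fun h => (Ideal.IsPrime.mem_or_mem ‹_› h).elim hs₁ hs₂, ?_⟩
    intro q hq hqp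
    have e : algebraMap A B (s₁ * s₂) * (x + y) - algebraMap A B (s₂ * a₁ + s₁ * a₂) =
        algebraMap A B s₂ * (algebraMap A B s₁ * x - algebraMap A B a₁) +
        algebraMap A B s₁ * (algebraMap A B s₂ * y - algebraMap A B a₂) := by
      simp only [map_mul, map_add]; ring
    rw [e]
    exact q.add_mem (q.mul_mem_left _ (h₁ q hq hqp)) (q.mul_mem_left _ (h₂ q hq hqp))
  | mul x y hx hy hx' hy' =>
    obtain ⟨a₁, s₁, hs₁, h₁⟩ := hx'
    obtain ⟨a₂, s₂, hs₂, h₂⟩ := hy'
    refine ⟨a₁ * a₂, s₁ * s₂, fun h => (Ideal.IsPrime.mem_or_mem ‹_› h).elim hs₁ hs₂, ?_⟩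
    intro q hq hqp
    have e : algebraMap A B (s₁ * s₂) * (x * y) - algebraMap A B (a₁ * a₂) =
        (algebraMap A B s₂ * y) * (algebraMap A B s₁ * x - algebraMap A B a₁) +
        algebraMap A B a₁ * (algebraMap A B s₂ * y - algebraMap A B a₂) := by
      simp only [map_mul]; ring
    rw [e]
    exact q.add_mem (q.mul_mem_left _ (h₁ q hq hqp)) (q.mul_mem_left _ (h₂ q hq hqp))

/-- An element of an integral reduced extension whose residues along every fibre come from the
base lies in the base when the base is seminormal. -/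
theorem mem_range_of_seminormal {A B : Type u} [CommRing A] [CommRing B] [Algebra A B]
    (hinj : Function.Injective (algebraMap A B)) [Algebra.IsIntegral A B] [IsReduced B]
    (hA : HTop.IsSeminormalRing A) (b : B)
    (hR : ∀ (p : Ideal A), p.IsPrime → ∃ a s : A, s ∉ p ∧ ∀ (q : Ideal B), q.IsPrime →
      q.comap (algebraMap A B) = p → algebraMap A B s * b - algebraMap A B a ∈ q) :
    b ∈ (algebraMap A B).range := by
  classical
  by_contra hbr
  let C : Subalgebra A B := Algebra.adjoin A {b}
  let φ : A →+* C := algebraMap A C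
  have hval : ∀ a : A, ((φ a : C) : B) = algebraMap A B a := fun a => rfl
  have hφinj : Function.Injective φ := by
    intro a a' h
    apply hinj
    rw [← hval, ← hval, h]
  have hns : ¬ Function.Surjective φ := by
    intro hsurj
    obtain ⟨a, ha⟩ := hsurj ⟨b, Algebra.subset_adjoin rfl⟩
    apply hbr
    exact ⟨a, by rw [← hval, ha]⟩
  have hint : φ.IsIntegral := by
    intro c
    have h1 : IsIntegral A (c : B) := Algebra.IsIntegral.isIntegral _
    have h2 : IsIntegral A c := (isIntegral_algHom_iff C.val Subtype.val_injective).mp h1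
    exact h2
  haveI : Algebra.IsIntegral C B := Algebra.IsIntegral.tower_top (R := A)
  have hCBinj : Function.Injective (algebraMap C B) := Subtype.val_injective
  -- primes of B over primes of C
  have hover : ∀ (q' : Ideal C), q'.IsPrime → ∃ q : Ideal B, q.IsPrime ∧
      q.comap (algebraMap C B) = q' := by
    intro q' hq'
    obtain ⟨q, -, hq, hqq⟩ := Ideal.exists_ideal_over_prime_of_isIntegral q' (⊥ : Ideal B) (by
      rw [← RingHom.ker_eq_comap_bot, (RingHom.injective_iff_ker_eq_bot _).mp hCBinj]
      exact bot_le)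
    exact ⟨q, hq, hqq⟩
  have hcomp : ∀ (q : Ideal B), (q.comap (algebraMap C B)).comap φ = q.comap (algebraMap A B) := by
    intro q
    rw [Ideal.comap_comap]
    rfl
  -- key: fractions
  have key : ∀ (q' : Ideal C), q'.IsPrime → ∀ c : C, ∃ a s : A, s ∉ q'.comap φ ∧
      ∀ (q'' : Ideal C), q''.IsPrime → q''.comap φ = q'.comap φ → φ s * c - φ a ∈ q'' := by
    intro q' hq' c
    haveI : (q'.comap φ).IsPrime := Ideal.comap_isPrime φ q'
    obtain ⟨a, s, hs, h⟩ := uniform_adjoin b (q'.comap φ) (hR _ inferInstance) (c : B) c.2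
    refine ⟨a, s, hs, ?_⟩
    intro q'' hq'' hqq
    obtain ⟨q, hq, hqq'⟩ := hover q'' hq''
    have h1 := h q hq (by rw [← hcomp, hqq', hqq])
    rw [← hqq']
    exact h1
  have hspec : ∀ q₁ q₂ : Ideal C, q₁.IsPrime → q₂.IsPrime → q₁.comap φ = q₂.comap φ →
      q₁ = q₂ := by
    have hle : ∀ q₁ q₂ : Ideal C, q₁.IsPrime → q₂.IsPrime → q₁.comap φ = q₂.comap φ →
        q₁ ≤ q₂ := by
      intro q₁ q₂ h₁ h₂ h12 c hc
      obtain ⟨a, s, hs, h⟩ := key q₁ h₁ c
      have e1 := h q₁ h₁ rfl
      have e2 := h q₂ h₂ h12.symm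
      have ha1 : φ a ∈ q₁ := by
        have := q₁.sub_mem (q₁.mul_mem_left (φ s) hc) e1
        rwa [sub_sub_cancel] at this
      have ha2 : φ a ∈ q₂ := by
        have : a ∈ q₂.comap φ := by rw [← h12]; exact ha1
        exact this
      have hsc : φ s * c ∈ q₂ := by
        have := q₂.add_mem e2 ha2
        rwa [sub_add_cancel] at this
      refine (Ideal.IsPrime.mem_or_mem h₂ hsc).resolve_left ?_
      intro hs2
      apply hs
      rw [h12]
      exact hs2
    intro q₁ q₂ h₁ h₂ h12
    exact le_antisymm (hle q₁ q₂ h₁ h₂ h12) (hle q₂ q₁ h₂ h₁ h12.symm)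
  have H : ∀ (q : Ideal C), q.IsPrime → ∀ c : C, ∃ (e n : ℕ) (a s : A),
      (fun (e : ℕ) (_ : Ideal A) => e = 1) e (q.comap φ) ∧ φ s ∉ q ∧
        φ s * c ^ (e ^ n) - φ a ∈ q := by
    intro q hq c
    obtain ⟨a, s, hs, h⟩ := key q hq c
    refine ⟨1, 0, a, s, rfl, hs, ?_⟩
    rw [pow_zero, pow_one]
    exact h q hq rfl
  haveI : IsReduced C := isReduced_of_injective C.val Subtype.val_injective
  rcases Groth.Agent.Lib.Helper6.SubInt.integral_core φ hφinj hns hint hspec
    (fun e _ => e = 1) (fun e p h h' => absurd h h') H with h | ⟨e, p, c, h1, h2, -⟩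
  · obtain ⟨c, hc, ⟨a₂, ha₂⟩, ⟨a₃, ha₃⟩⟩ := h
    have h23 : a₂ ^ 3 = a₃ ^ 2 := by
      apply hφinj
      rw [map_pow, map_pow, ha₂, ha₃]; ring
    obtain ⟨a, ⟨hx, hy⟩, -⟩ := hA a₂ a₃ h23
    apply hc
    refine ⟨a, ?_⟩
    have hx' : (φ a) ^ 2 = c ^ 2 := by rw [← map_pow, ← hx, ha₂]
    have hy' : (φ a) ^ 3 = c ^ 3 := by rw [← map_pow, ← hy, ha₃]
    have hcube : (φ a - c) ^ 3 = 0 := by
      have e : (φ a - c) ^ 3 = (φ a) ^ 3 - 3 * ((φ a) ^ 2 * c) + 3 * (φ a * c ^ 2) - c ^ 3 := by
        ring
      have h1 : (φ a) ^ 2 * c = c ^ 3 := by rw [hx']; ring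
      have h2 : φ a * c ^ 2 = c ^ 3 := by rw [← hx', ← pow_succ', hy']
      rw [e, hy', h1, h2]; ring
    exact sub_eq_zero.mp (IsReduced.eq_zero _ ⟨3, hcube⟩)
  · exact absurd h1 h2

end Alg


section Frac

variable {A : Type u} [CommRing A]

theorem isUnit_of_mem_nonZeroDivisors_integralClosure
    (β : integralClosure A (FractionRing A))
    (hβ : β ∈ nonZeroDivisors (integralClosure A (FractionRing A))) :
    IsUnit (β : FractionRing A) := by
  obtain ⟨a, s, h⟩ := IsLocalization.exists_mk'_eq (nonZeroDivisors A) (β : FractionRing A)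
  have hspec : (β : FractionRing A) * algebraMap A (FractionRing A) s =
      algebraMap A (FractionRing A) a := by
    rw [← h]; exact IsLocalization.mk'_spec _ a s
  have hsu : IsUnit (algebraMap A (FractionRing A) s) := IsLocalization.map_units _ s
  have ha : a ∈ nonZeroDivisors A := by
    rw [mem_nonZeroDivisors_iff_right]
    intro c hc
    have h1 : algebraMap A (FractionRing A) c * (β : FractionRing A) = 0 := by
      have : algebraMap A (FractionRing A) c * (β : FractionRing A) *
          algebraMap A (FractionRing A) s = 0 := by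
        rw [mul_assoc, hspec, ← map_mul, hc, map_zero]
      exact (hsu.mul_left_eq_zero).mp this
    have h2 : (algebraMap A (integralClosure A (FractionRing A)) c) * β = 0 := by
      apply Subtype.ext
      exact h1
    have h3 := (mem_nonZeroDivisors_iff_right.mp hβ) _ h2
    have h4 : algebraMap A (FractionRing A) c = 0 := congrArg Subtype.val h3
    exact IsFractionRing.injective A (FractionRing A) (by rw [h4, map_zero])
  have hau : IsUnit (algebraMap A (FractionRing A) a) :=
    IsLocalization.map_units _ (⟨a, ha⟩ : nonZeroDivisors A)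
  have : (β : FractionRing A) = algebraMap A (FractionRing A) a * ↑(hsu.unit⁻¹) := by
    rw [← hspec, mul_assoc, IsUnit.mul_val_inv, mul_one]
  rw [this]
  exact hau.mul (Units.isUnit _)

theorem isFractionRing_integralClosure :
    IsFractionRing (integralClosure A (FractionRing A)) (FractionRing A) := by
  rw [IsFractionRing, isLocalization_iff]
  refine ⟨fun y => isUnit_of_mem_nonZeroDivisors_integralClosure y.1 y.2, ?_, ?_⟩
  · intro z
    obtain ⟨a, s, h⟩ := IsLocalization.exists_mk'_eq (nonZeroDivisors A) z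
    have hsu : IsUnit (algebraMap A (FractionRing A) s) := IsLocalization.map_units _ s
    have hs : algebraMap A (integralClosure A (FractionRing A)) s ∈
        nonZeroDivisors (integralClosure A (FractionRing A)) := by
      rw [mem_nonZeroDivisors_iff_right]
      intro x hx
      have h1 : (x : FractionRing A) * algebraMap A (FractionRing A) s = 0 :=
        congrArg Subtype.val hx
      apply Subtype.ext
      exact (hsu.mul_left_eq_zero).mp h1
    refine ⟨(algebraMap A _ a, ⟨algebraMap A _ s, hs⟩), ?_⟩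
    show z * algebraMap A (FractionRing A) s = algebraMap A (FractionRing A) a
    rw [← h]; exact IsLocalization.mk'_spec _ a s
  · intro x y hxy
    exact ⟨1, by rw [Subtype.ext hxy]⟩

end Frac

section Sch

variable {A : Type u} [CommRing A]

theorem existsUnique_of_values [IsReduced A] (f : PtFun (Spec (CommRingCat.of A))) (a : A)
    (ha : ∀ z : Spec (CommRingCat.of A), ev (CommRingCat.of A) z a = f z) :
    ∃! a : Γ(Spec (CommRingCat.of A), ⊤), PtFun.ofSection (Spec (CommRingCat.of A)) a = f := by
  classical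
  have hev : ∀ (c : Γ(Spec (CommRingCat.of A), ⊤)) (z : Spec (CommRingCat.of A)),
      (Spec (CommRingCat.of A)).Γevaluation z c =
        ev (CommRingCat.of A) z ((Scheme.ΓSpecIso (CommRingCat.of A)).hom.hom c) := by
    intro c z
    unfold ev
    rw [CommRingCat.hom_comp, RingHom.comp_apply]
    have : (Scheme.ΓSpecIso (CommRingCat.of A)).inv.hom
        ((Scheme.ΓSpecIso (CommRingCat.of A)).hom.hom c) = c := by
      change ((Scheme.ΓSpecIso (CommRingCat.of A)).hom ≫
        (Scheme.ΓSpecIso (CommRingCat.of A)).inv).hom c = c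
      rw [Iso.hom_inv_id]; rfl
    rw [this]
  have hinj : Function.Injective (Scheme.ΓSpecIso (CommRingCat.of A)).hom.hom := by
    intro c c' hcc
    have h1 := congrArg (Scheme.ΓSpecIso (CommRingCat.of A)).inv.hom hcc
    change ((Scheme.ΓSpecIso (CommRingCat.of A)).hom ≫
      (Scheme.ΓSpecIso (CommRingCat.of A)).inv).hom c =
      ((Scheme.ΓSpecIso (CommRingCat.of A)).hom ≫
      (Scheme.ΓSpecIso (CommRingCat.of A)).inv).hom c' at h1
    rw [Iso.hom_inv_id] at h1
    exact h1
  refine ⟨(Scheme.ΓSpecIso (CommRingCat.of A)).inv.hom a, ?_, ?_⟩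
  · funext z
    show (Spec (CommRingCat.of A)).Γevaluation z _ = f z
    rw [← ha z]
    rfl
  · intro c hc
    apply hinj
    have hvals : ∀ z : Spec (CommRingCat.of A),
        ev (CommRingCat.of A) z ((Scheme.ΓSpecIso (CommRingCat.of A)).hom.hom c) =
        ev (CommRingCat.of A) z a := by
      intro z
      rw [← hev c z, ha z]
      exact congrFun hc z
    have hsec : (Scheme.ΓSpecIso (CommRingCat.of A)).hom.hom
        ((Scheme.ΓSpecIso (CommRingCat.of A)).inv.hom a) = a := by
      change ((Scheme.ΓSpecIso (CommRingCat.of A)).inv ≫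
        (Scheme.ΓSpecIso (CommRingCat.of A)).hom).hom a = a
      rw [Iso.inv_hom_id]; rfl
    rw [hsec]
    have hnil : IsNilpotent ((Scheme.ΓSpecIso (CommRingCat.of A)).hom.hom c - a) := by
      rw [nilpotent_iff_mem_prime]
      intro J hJ
      let z : Spec (CommRingCat.of A) := (⟨J, hJ⟩ : PrimeSpectrum A)
      have h0 := hvals z
      rw [← sub_eq_zero, ← map_sub, ev_eq_zero_iff] at h0
      exact h0
    exact sub_eq_zero.mp hnil.eq_zero

theorem varies_pullback {B : Type u} [CommRing B] (ι : A →+* B)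
    (f : PtFun (Spec (CommRingCat.of A))) (hf : f.VariesAlongCompleteDVR) :
    (f.pullback (Spec.map (CommRingCat.ofHom ι))).VariesAlongCompleteDVR := by
  intro W _ _ _ _ g
  obtain ⟨r, hr⟩ := hf W (g ≫ Spec.map (CommRingCat.ofHom ι))
  refine ⟨r, ?_⟩
  rw [hr]
  funext y
  simp only [PtFun.pullback]
  rw [Scheme.residueFieldMap_comp]
  rfl

theorem main_seminormal [IsNoetherianRing A] (hA : HTop.IsSeminormalRing A)
    (hfin : Module.Finite A (integralClosure A (FractionRing A)))
    (f : PtFun (Spec (CommRingCat.of A))) (hf : f.VariesAlongCompleteDVR) :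
    ∃ a : A, ∀ z : Spec (CommRingCat.of A), ev (CommRingCat.of A) z a = f z := by
  classical
  haveI := isReduced_of_seminormal hA
  let B := integralClosure A (FractionRing A)
  haveI : IsReduced (FractionRing A) :=
    isReduced_localizationPreserves (nonZeroDivisors A) (FractionRing A) inferInstance
  haveI : IsReduced B := isReduced_of_injective B.val Subtype.val_injective
  haveI : IsNoetherianRing B := Algebra.FiniteType.isNoetherianRing A B
  haveI : IsFractionRing B (FractionRing A) := isFractionRing_integralClosure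
  haveI : IsIntegrallyClosed B :=
    (isIntegrallyClosed_iff_isIntegrallyClosedIn (FractionRing A)).mpr inferInstance
  let ι : A →+* B := algebraMap A B
  have hιinj : Function.Injective ι := by
    intro a a' h
    apply IsFractionRing.injective A (FractionRing A)
    exact congrArg Subtype.val h
  obtain ⟨b, hb⟩ := main_c (f.pullback (Spec.map (CommRingCat.ofHom ι))) (varies_pullback ι f hf)
  have hR : ∀ p : Ideal A, p.IsPrime → ∃ a s : A, s ∉ p ∧ ∀ q : Ideal B, q.IsPrime →
      q.comap (algebraMap A B) = p → algebraMap A B s * b - algebraMap A B a ∈ q := by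
    intro p hp
    let x : Spec (CommRingCat.of A) := (⟨p, hp⟩ : PrimeSpectrum A)
    obtain ⟨a, s, hs, h⟩ := ev_surj (CommRingCat.of A) x (f x)
    refine ⟨a, s, hs, ?_⟩
    intro q hq hqp
    let z : Spec (CommRingCat.of B) := (⟨q, hq⟩ : PrimeSpectrum B)
    have hz : Spec.map (CommRingCat.ofHom ι) z = x := by
      apply PrimeSpectrum.ext
      rw [Spec.map_apply]
      exact hqp
    have h' : f (Spec.map (CommRingCat.ofHom ι) z) *
        ev (CommRingCat.of A) (Spec.map (CommRingCat.ofHom ι) z) s =
        ev (CommRingCat.of A) (Spec.map (CommRingCat.ofHom ι) z) a := by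
      rw [hz]; exact h
    have h2 := dvr_rel f B ι b z (hb z) a s h'
    have h3 : ev (CommRingCat.of B) z (ι s * b - ι a) = 0 := by
      rw [map_sub, mul_comm, h2, sub_self]
    exact (ev_eq_zero_iff _ z _).mp h3
  obtain ⟨a₀, ha₀⟩ := mem_range_of_seminormal hιinj hA b hR
  refine ⟨a₀, fun x => ?_⟩
  haveI : x.asIdeal.IsPrime := x.isPrime
  obtain ⟨q, -, hq, hqx⟩ := Ideal.exists_ideal_over_prime_of_isIntegral x.asIdeal (⊥ : Ideal B) (by
    rw [← RingHom.ker_eq_comap_bot, (RingHom.injective_iff_ker_eq_bot _).mp hιinj]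
    exact bot_le)
  let z : Spec (CommRingCat.of B) := (⟨q, hq⟩ : PrimeSpectrum B)
  have hz : Spec.map (CommRingCat.ofHom ι) z = x := by
    apply PrimeSpectrum.ext
    rw [Spec.map_apply]
    exact hqx
  have h2 := hb z
  rw [← ha₀] at h2
  have h3 := ev_naturality (CommRingCat.ofHom ι) z a₀
  have h4 := ((Spec.map (CommRingCat.ofHom ι)).residueFieldMap z).hom.injective
    (h3.trans h2)
  rw [hz] at h4
  exact h4

theorem existsUnique_section_seminormal [IsNoetherianRing A] (hA : HTop.IsSeminormalRing A)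
    (hfin : Module.Finite A (integralClosure A (FractionRing A)))
    (f : PtFun (Spec (CommRingCat.of A))) (hf : f.VariesAlongCompleteDVR) :
    ∃! a : Γ(Spec (CommRingCat.of A), ⊤), PtFun.ofSection (Spec (CommRingCat.of A)) a = f := by
  haveI := isReduced_of_seminormal hA
  obtain ⟨a, ha⟩ := main_seminormal hA hfin f hf
  exact existsUnique_of_values f a ha

end Sch

end Groth.Agent.Lib.Helper2.PtFunDVR
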