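import Mathlib
import Groth.Prelude.Def_HTop2
import Groth.Prelude.Def_W4c1hilbchowincPtFun
import Groth.Agent.Lib.Helper2.PtFunDVR.Seminormal

/-!
# Converse: if every pointwise function varying along DVRs is algebraic, the ring is seminormal
(helper2)
-/

set_option autoImplicit false
set_option backward.isDefEq.respectTransparency.types false
set_option synthInstance.maxHeartbeats 400000
set_option maxHeartbeats 4000000
set_option linter.style.haveILetI false
set_option linter.unusedSectionVars false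
set_option linter.unusedVariables false

universe u
open CategoryTheory AlgebraicGeometry W4c1hilbchowinc Polynomial
open Groth.Agent.Lib.Helper6.SubInt (ev ev_eq_zero_iff ev_surj ev_naturality)

namespace Groth.Agent.Lib.Helper2.PtFunDVR

variable {A : Type u} [CommRing A]

theorem Γevaluation_eq_ev (c : Γ(Spec (CommRingCat.of A), ⊤)) (z : Spec (CommRingCat.of A)) :
    (Spec (CommRingCat.of A)).Γevaluation z c =
      ev (CommRingCat.of A) z ((Scheme.ΓSpecIso (CommRingCat.of A)).hom.hom c) := by
  unfold ev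
  rw [CommRingCat.hom_comp, RingHom.comp_apply]
  have : (Scheme.ΓSpecIso (CommRingCat.of A)).inv.hom
      ((Scheme.ΓSpecIso (CommRingCat.of A)).hom.hom c) = c := by
    change ((Scheme.ΓSpecIso (CommRingCat.of A)).hom ≫
      (Scheme.ΓSpecIso (CommRingCat.of A)).inv).hom c = c
    rw [Iso.hom_inv_id]; rfl
  rw [this]

theorem eq_of_ev_eq [IsReduced A] (u v : A)
    (h : ∀ z : Spec (CommRingCat.of A), ev (CommRingCat.of A) z u = ev (CommRingCat.of A) z v) :
    u = v := by
  have hnil : IsNilpotent (u - v) := by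
    rw [nilpotent_iff_mem_prime]
    intro J hJ
    let z : Spec (CommRingCat.of A) := (⟨J, hJ⟩ : PrimeSpectrum A)
    have h0 := h z
    rw [← sub_eq_zero, ← map_sub, ev_eq_zero_iff] at h0
    exact h0
  exact sub_eq_zero.mp hnil.eq_zero

/-- In a DVR, `x³ = y²` forces `y = x t`, `x = t²`. -/
theorem exists_sqrt_of_cube_eq_sq (R : Type u) [CommRing R] [IsDomain R]
    [IsDiscreteValuationRing R] (x y : R) (h : x ^ 3 = y ^ 2) :
    ∃ t : R, y = x * t ∧ x = t ^ 2 := by
  by_cases hx : x = 0
  · refine ⟨0, ?_, ?_⟩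
    · rw [hx, zero_mul]
      rw [hx] at h
      have : y ^ 2 = 0 := by rw [← h]; ring
      exact pow_eq_zero_iff (by norm_num) |>.mp this
    · rw [hx]; ring
  · have hdvd : x ^ 2 ∣ y ^ 2 := ⟨x, by rw [← h]; ring⟩
    obtain ⟨t, ht⟩ := (IsIntegrallyClosed.pow_dvd_pow_iff (by norm_num : (2 : ℕ) ≠ 0)).mp hdvd
    refine ⟨t, ht, ?_⟩
    have h1 : x ^ 2 * x = x ^ 2 * t ^ 2 := by
      rw [← pow_succ, h, ht]; ring
    exact mul_left_cancel₀ (pow_ne_zero 2 hx) h1

theorem seminormal_of_forall [IsReduced A]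
    (h : ∀ f : PtFun (Spec (CommRingCat.of A)), f.VariesAlongDVR →
      ∃ a : A, ∀ z : Spec (CommRingCat.of A), ev (CommRingCat.of A) z a = f z) :
    HTop.IsSeminormalRing A := by
  classical
  intro x y hxy
  let f : PtFun (Spec (CommRingCat.of A)) := fun z =>
    if ev (CommRingCat.of A) z x = 0 then 0
    else ev (CommRingCat.of A) z y / ev (CommRingCat.of A) z x
  have hf0 : ∀ z, ev (CommRingCat.of A) z x = 0 → f z = 0 := fun z hz => if_pos hz
  have hf1 : ∀ z, ev (CommRingCat.of A) z x ≠ 0 →
      f z = ev (CommRingCat.of A) z y / ev (CommRingCat.of A) z x := fun z hz => if_neg hz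
  have hrel : ∀ z : Spec (CommRingCat.of A),
      ev (CommRingCat.of A) z x ^ 3 = ev (CommRingCat.of A) z y ^ 2 := by
    intro z; rw [← map_pow, ← map_pow, hxy]
  have hvar : f.VariesAlongDVR := by
    intro R _ _ _ g
    obtain ⟨φ, rfl⟩ : ∃ φ : CommRingCat.of A ⟶ CommRingCat.of R, Spec.map φ = g :=
      ⟨Spec.preimage g, Spec.map_preimage g⟩
    have hxy' : (φ.hom x) ^ 3 = (φ.hom y) ^ 2 := by rw [← map_pow, ← map_pow, hxy]
    obtain ⟨t, ht1, ht2⟩ := exists_sqrt_of_cube_eq_sq R (φ.hom x) (φ.hom y) hxy'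
    refine ⟨(Scheme.ΓSpecIso (CommRingCat.of R)).inv.hom t, ?_⟩
    funext z
    show (Spec (CommRingCat.of R)).Γevaluation z _ = (Spec.map φ).residueFieldMap z (f (Spec.map φ z))
    have e1 : (Spec (CommRingCat.of R)).Γevaluation z
        ((Scheme.ΓSpecIso (CommRingCat.of R)).inv.hom t) = ev (CommRingCat.of R) z t := rfl
    rw [e1]
    have hnx := ev_naturality φ z x
    have hny := ev_naturality φ z y
    by_cases hz : ev (CommRingCat.of A) (Spec.map φ z) x = 0
    · rw [hf0 _ hz, map_zero]
      rw [hz, map_zero] at hnx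
      have : ev (CommRingCat.of R) z t ^ 2 = 0 := by
        rw [← map_pow, ← ht2, ← hnx]
      exact pow_eq_zero_iff (by norm_num) |>.mp this
    · rw [hf1 _ hz, map_div₀, hnx, hny]
      have hx0 : ev (CommRingCat.of R) z (φ.hom x) ≠ 0 := by
        rw [← hnx]
        intro h0
        exact hz (((Spec.map φ).residueFieldMap z).hom.injective (by rw [h0, map_zero]))
      rw [eq_div_iff hx0, ← map_mul, mul_comm, ← ht1]
  obtain ⟨a, ha⟩ := h f hvar
  have hval : ∀ z : Spec (CommRingCat.of A),
      ev (CommRingCat.of A) z x = ev (CommRingCat.of A) z a ^ 2 ∧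
      ev (CommRingCat.of A) z y = ev (CommRingCat.of A) z a ^ 3 := by
    intro z
    by_cases hz : ev (CommRingCat.of A) z x = 0
    · have hy0 : ev (CommRingCat.of A) z y = 0 := by
        have := hrel z
        rw [hz] at this
        have h2 : ev (CommRingCat.of A) z y ^ 2 = 0 := by rw [← this]; ring
        exact (pow_eq_zero_iff (two_ne_zero)).mp h2
      rw [ha z, hf0 z hz, hz, hy0]
      constructor <;> ring
    · rw [ha z, hf1 z hz]
      have h3 := hrel z
      constructor
      · rw [div_pow, ← h3]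
        field_simp
      · rw [div_pow]
        have : ev (CommRingCat.of A) z y ^ 3 =
            ev (CommRingCat.of A) z y * ev (CommRingCat.of A) z x ^ 3 := by
          rw [h3]; ring
        rw [this]
        field_simp
  refine ⟨a, ⟨?_, ?_⟩, ?_⟩
  · apply eq_of_ev_eq
    intro z; rw [map_pow]; exact (hval z).1
  · apply eq_of_ev_eq
    intro z; rw [map_pow]; exact (hval z).2
  · rintro a' ⟨hx', hy'⟩
    apply eq_of_ev_eq
    intro z
    rw [ha z]
    have e2 : ev (CommRingCat.of A) z x = ev (CommRingCat.of A) z a' ^ 2 := by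
      rw [hx', map_pow]
    have e3 : ev (CommRingCat.of A) z y = ev (CommRingCat.of A) z a' ^ 3 := by
      rw [hy', map_pow]
    by_cases hz : ev (CommRingCat.of A) z x = 0
    · rw [hf0 z hz]
      rw [hz] at e2
      exact pow_eq_zero_iff (by norm_num) |>.mp e2.symm
    · rw [hf1 z hz, e2, e3]
      have ha0 : ev (CommRingCat.of A) z a' ≠ 0 := by
        intro h0
        apply hz
        rw [e2, h0]; ring
      field_simp

theorem seminormal_of_forall' [IsReduced A]
    (h : ∀ f : PtFun (Spec (CommRingCat.of A)), f.VariesAlongDVR →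
      ∃! a : Γ(Spec (CommRingCat.of A), ⊤), PtFun.ofSection (Spec (CommRingCat.of A)) a = f) :
    HTop.IsSeminormalRing A := by
  apply seminormal_of_forall
  intro f hf
  obtain ⟨c, hc, -⟩ := h f hf
  refine ⟨(Scheme.ΓSpecIso (CommRingCat.of A)).hom.hom c, fun z => ?_⟩
  rw [← Γevaluation_eq_ev]
  exact congrFun hc z

end Groth.Agent.Lib.Helper2.PtFunDVR
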